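import Cfsg.Agent.TAB.Eng.Norm
import Cfsg.Agent.TAB.Eng.Fib

/-!
# Rational classes, induction and the adjoint of the Adams operation (helper45, TAB)

* `Rat T` : the types are the rational classes;
* `gen_coad` : `g ↦ ∑ x ^ k = g, φ x` is a generalized character;
* `virt_of_sum` : a rational generalized character is a function of the type, given by its sums over the types;
* `virt_coad`, `virt_ind`, `virt_cyc` (checks `coadB`, `cycB`);
* `BoxR`, `exists_td_rat` : boxes made of the classes of the generators of one cyclic subgroup.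
-/

set_option autoImplicit false

namespace Cfsg.Agent.TAB.ON

open Cfsg Cfsg.Agent.TAB.Eng Cfsg.Agent.Characters Cfsg.Agent.Characters.Core Cfsg.Agent.Characters.Brauer
open Cfsg.Agent.H447.CTab
open scoped ComplexConjugate

universe u v

variable {G : Type u} [Group G] {D : Dat} {T : TD G D}

/-- the types are the rational classes -/
def Rat (T : TD G D) : Prop := ∀ g h : G, T.ty g = T.ty h → ∃ k : ℕ, IsConj (g ^ k) h

theorem coprime_of_conj [Finite G] {g h : G} {k : ℕ} (ho : orderOf g = orderOf h) (hc : IsConj (g ^ k) h) :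
    Nat.Coprime k (orderOf g) := by
  obtain ⟨c, rfl⟩ := isConj_iff.1 hc
  rw [orderOf_conj', orderOf_pow] at ho
  have h1 := orderOf_pos g
  have h2 := Nat.div_mul_cancel (Nat.gcd_dvd_left (orderOf g) k)
  rw [← ho] at h2
  rw [Nat.Coprime, Nat.gcd_comm]
  exact Nat.eq_of_mul_eq_mul_left h1 (h2.trans (mul_one _).symm)

/-- rational generalized characters are constant on the generators of a cyclic subgroup -/
theorem gen_pow [Finite G] {ψ : G → ℂ} (hψ : IsGeneralizedCharacter G ψ) {g : G} {q : ℚ} (hq : ψ g = q) {k : ℕ}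
    (hk : Nat.Coprime k (orderOf g)) : ψ (g ^ k) = ψ g := by
  obtain ⟨α, β, hα, hβ, rfl⟩ := hψ
  obtain ⟨σ, hσ⟩ := GaloisBasic.exists_ringEquiv_pow (orderOf_pos g).ne' hk
  have h1 := GaloisBasic.map_apply (σ : ℂ →+* ℂ) hσ hα (orderOf_pos g).ne' (pow_orderOf_eq_one g)
  have h2 := GaloisBasic.map_apply (σ : ℂ →+* ℂ) hσ hβ (orderOf_pos g).ne' (pow_orderOf_eq_one g)
  rw [Pi.sub_apply, ← h1, ← h2, ← map_sub, ← Pi.sub_apply, hq, map_ratCast]

theorem Rat.eq [Finite G] (hr : Rat T) {ψ : G → ℂ} (hψ : IsGeneralizedCharacter G ψ) (hq : ∀ g, ∃ q : ℚ, ψ g = q)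
    {g h : G} (hg : T.ty g = T.ty h) : ψ g = ψ h := by
  obtain ⟨k, hk⟩ := hr g h hg
  have h1 := coprime_of_conj (by rw [T.ord, T.ord, hg]) hk
  obtain ⟨c, rfl⟩ := isConj_iff.1 hk
  obtain ⟨q, hq⟩ := hq g
  rw [gen_classFunction hψ, gen_pow hψ hq h1]

open Classical in
/-- **a rational generalized character is determined by its sums over the types** -/
theorem virt_of_sum [Fintype G] (hm : T.Mass) (hr : Rat T) {ψ : G → ℂ} (hψ : IsGeneralizedCharacter G ψ)
    (hq : ∀ g, ∃ q : ℚ, ψ g = q) {f : ℕ → ℤ}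
    (h : ∀ t < D.n, ∑ g : G, (if T.ty g = t then ψ g else 0) = (D.cnt t : ℂ) * f t) : Virt T f := by
  have h1 : (fun g => (f (T.ty g) : ℂ)) = ψ := by
    funext g
    have h2 := h _ (T.lt g)
    have h3 : ∑ x : G, (if T.ty x = T.ty g then ψ x else 0) = ∑ x : G, if T.ty x = T.ty g then ψ g else 0 :=
      Finset.sum_congr rfl fun x _ => by
        split_ifs with h4
        · exact hr.eq hψ hq h4
        · rfl
    rw [h3, sum_mass hm fun t => if t = T.ty g then ψ g else 0] at h2
    simp only [smul_ite, smul_zero, Finset.sum_ite_eq', Finset.mem_range, T.lt g, if_true, nsmul_eq_mul] at h2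
    refine (mul_left_cancel₀ ?_ h2).symm
    rw [← hm.2 _ (T.lt g)]
    have : Nonempty {x : G // T.ty x = T.ty g} := ⟨⟨g, rfl⟩⟩
    exact_mod_cast Nat.card_pos.ne'
  rw [Virt, h1]
  exact hψ

/-! ### the adjoint of the Adams operation -/

open Classical in
/-- the sum of `φ` over the `k`-th roots -/
noncomputable def coadF [Fintype G] (φ : G → ℂ) (k : ℕ) : G → ℂ := fun g => ∑ x : G, if x ^ k = g then φ x else 0

theorem sum_coadF [Fintype G] (φ F : G → ℂ) (k : ℕ) : ∑ g, coadF φ k g * F g = ∑ x, φ x * F (x ^ k) := by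
  classical
  simp only [coadF, Finset.sum_mul]
  rw [Finset.sum_comm]
  refine Finset.sum_congr rfl fun x _ => ?_
  simp only [ite_mul, zero_mul, Finset.sum_ite_eq, Finset.mem_univ, if_true]

/-- **the sum over the `k`-th roots of a generalized character is a generalized character** -/
theorem gen_coad [Fintype G] {φ : G → ℂ} (hφ : IsGeneralizedCharacter G φ) (k : ℕ) :
    IsGeneralizedCharacter G (coadF φ k) := by
  classical
  have := finite_irr (G := G)
  have := Fintype.ofFinite (IrrCharacter G)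
  refine isGeneralizedCharacter_of_int (fun g c => ?_) fun χ hχ => ?_
  · refine Fintype.sum_equiv (MulAut.conj c⁻¹).toEquiv _ _ fun x => ?_
    have h1 : (MulAut.conj c⁻¹).toEquiv x = c⁻¹ * x * c⁻¹⁻¹ := rfl
    rw [h1, gen_classFunction hφ, conj_pow]
    refine if_congr ⟨fun h => ?_, fun h => ?_⟩ rfl rfl
    · rw [h]; group
    · rw [← h]; group
  · have h1 := H139.Cusp.isGeneralizedCharacter_pow
      (isGeneralizedCharacter_of_isCharacter (isIrr_isCharacter hχ)) k
    refine ⟨_, Eq.trans ?_ (inner_sum_mu hφ h1)⟩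
    rw [classInner_def, classInner_def, sum_coadF φ fun g => conj (χ g)]

theorem sum_list (f : ℕ → ℤ) (n : ℕ) : ((List.range n).map f).sum = ∑ i ∈ Finset.range n, f i := by
  induction n with
  | zero => rfl
  | succ n ih => rw [List.range_succ, List.map_append, List.sum_append, ih, Finset.sum_range_succ]; simp

/-- `v` is the row of the sums of `u` over the `k`-th roots -/
noncomputable def coadB (D : Dat) (u : List ℤ) (k : ℕ) (v : List ℤ) : Bool :=
  frcL ((List.range D.n).map fun s => D.pwf s k) fun PL =>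
    allL (fun t => decide (((List.range D.n).map fun s =>
      if ntd PL 0 s = t then (D.cnt s : ℤ) * nth u s else 0).sum = D.cnt t * nth v t)) (List.range D.n)

theorem virt_coad [Finite G] (hm : T.Mass) (hr : Rat T) {u v : List ℤ} {k : ℕ} (hu : Virt T (nth u))
    (h : coadB D u k v = true) : Virt T (nth v) := by
  classical
  have := Fintype.ofFinite G
  rw [coadB, frcL_eq] at h
  refine virt_of_sum hm hr (gen_coad hu k) (fun g => ⟨∑ x : G, if x ^ k = g then (nth u (T.ty x) : ℚ) else 0, ?_⟩)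
    fun t ht => ?_
  · simp only [coadF, Rat.cast_sum, apply_ite ((↑) : ℚ → ℂ), Rat.cast_intCast, Rat.cast_zero]
  · have h1 := of_decide_eq_true (allL_spec h t (List.mem_range.2 ht))
    rw [sum_list] at h1
    have h2 := sum_coadF (fun g => (nth u (T.ty g) : ℂ)) (fun g => if T.ty g = t then 1 else 0) k
    simp only [mul_ite, mul_one, mul_zero, T.pow] at h2
    rw [h2, sum_mass hm fun s => if D.pwf s k = t then (nth u s : ℂ) else 0]
    have h3 := congrArg (Int.cast : ℤ → ℂ) h1
    push_cast at h3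
    rw [← h3]
    refine Finset.sum_congr rfl fun s hs => ?_
    rw [ntd_eq _ _ (by simpa using hs)]
    simp only [List.getElem_map, List.getElem_range, smul_ite, smul_zero, nsmul_eq_mul]

/-! ### induction -/

open Classical in
theorem virt_ind [Finite G] (hm : T.Mass) (hr : Rat T) (H : Subgroup G) [Fintype H] {θ : H → ℂ}
    (hθ : IsGeneralizedCharacter H θ) (hq : ∀ h, ∃ q : ℚ, θ h = q) {f : ℕ → ℤ}
    (h : ∀ t < D.n, (D.N : ℂ) * ∑ x : H, (if T.ty x = t then θ x else 0) = Nat.card H * (D.cnt t * f t)) :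
    Virt T f := by
  have := Fintype.ofFinite G
  choose q hq using hq
  refine virt_of_sum hm hr (isGeneralizedCharacter_indFun H hθ) (fun g => ⟨(Nat.card H : ℚ)⁻¹ *
    ∑ x : G, if hx : x⁻¹ * g * x ∈ H then q ⟨_, hx⟩ else 0, ?_⟩) fun t ht => ?_
  · rw [Core.indFun_apply]
    push_cast
    congr 1
    refine Finset.sum_congr rfl fun x _ => ?_
    split_ifs with hx
    · rw [extendByZero_mem H _ hx, hq]
    · rw [extendByZero_notMem H _ hx, Rat.cast_zero]
  · have h1 := classInner_indFun H inferInstance θ (fun g => if T.ty g = t then 1 else 0) fun g c => by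
      simp only [T.conj]
    rw [classInner_def, classInner_def] at h1
    simp only [apply_ite conj, map_one, map_zero, mul_ite, mul_one, mul_zero] at h1
    have h2 := h t ht
    rw [← hm.1] at h2
    have h3 : (Nat.card G : ℂ) ≠ 0 := card_ne_zero_complex
    have h4 : (Nat.card H : ℂ) ≠ 0 := card_ne_zero_complex
    field_simp at h1
    refine mul_left_cancel₀ h4 ?_
    rw [← h2]
    linear_combination h1

/-- `v` is the row of the permutation character on the cosets of a cyclic subgroup with generators of type `s` -/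
noncomputable def cycB (D : Dat) (s : ℕ) (v : List ℤ) : Bool :=
  frcL ((List.range (D.ord s)).map fun i => D.pwf s i) fun PL =>
    allL (fun t => decide ((D.N : ℤ) * (PL.map fun j => if j = t then (1 : ℤ) else 0).sum =
      D.ord s * (D.cnt t * nth v t))) (List.range D.n)

theorem virt_cyc [Finite G] (hm : T.Mass) (hr : Rat T) (x : G) {v : List ℤ} (h : cycB D (T.ty x) v = true) :
    Virt T (nth v) := by
  classical
  have := Fintype.ofFinite (Subgroup.zpowers x)
  rw [cycB, frcL_eq] at h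
  refine virt_ind hm hr (Subgroup.zpowers x) (θ := fun _ => ((1 : ℤ) : ℂ)) (gen_const _ 1) (fun _ => ⟨1, by simp⟩)
    fun t ht => ?_
  have h1 := of_decide_eq_true (allL_spec h t (List.mem_range.2 ht))
  rw [List.map_map, sum_list, ← T.ord] at h1
  have h2 := congrArg (Int.cast : ℤ → ℂ) h1
  push_cast at h2
  rw [Nat.card_zpowers, ← h2, Finset.sum_range]
  congr 1
  refine (Fintype.sum_equiv (finEquivZPowers (isOfFinOrder_of_finite x)) _ _ fun i => ?_).symm
  have h3 : ((finEquivZPowers (isOfFinOrder_of_finite x) i : Subgroup.zpowers x) : G) = x ^ (i : ℕ) := rfl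
  rw [h3, T.pow, Function.comp_apply]
  split_ifs <;> simp

/-! ### boxes of rational classes -/

variable {α : Type v} {K : Key G α} {val : ℕ → α}

theorem ty_coprime [Finite G] {i : ℕ} {g : G} (hg : Ty K D val i g) {k : ℕ} (hk : Nat.Coprime k (D.ord i)) :
    Ty K D val i (g ^ k) := by
  rw [← hg.1] at hk
  refine ⟨hk.symm.orderOf_pow.trans hg.1, fun p hp => ?_⟩
  rw [← pow_mul, mul_comm, pow_mul]
  exact K.gal _ _ _ (hk.coprime_dvd_right (orderOf_pow_dvd _)) (hg.2 p hp)

/-- **the box of a rational class** : `m` pairwise not conjugate generators of one cyclic subgroup fill the type -/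
def BoxR (K : Key G α) (D : Dat) (val : ℕ → α) (i m : ℕ) : Prop :=
  ∃ (x : G) (c : ℕ) (ks : List ℕ), Ty K D val i x ∧ Nat.card (Subgroup.centralizer ({x} : Set G)) ≤ c ∧
    ks.length = m ∧ (∀ k ∈ ks, Nat.Coprime k (D.ord i)) ∧ (ks.Pairwise fun a b => ¬ IsConj (x ^ a) (x ^ b)) ∧
      D.cnt i ≤ m * (D.N / c)

theorem BoxR.one {i c : ℕ} {x : G} (hx : Ty K D val i x)
    (hc : Nat.card (Subgroup.centralizer ({x} : Set G)) ≤ c) (h : D.cnt i ≤ 1 * (D.N / c)) : BoxR K D val i 1 :=
  ⟨x, c, [1], hx, hc, rfl, by simp, by simp, h⟩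

theorem BoxR.two {i c k : ℕ} {x : G} (hx : Ty K D val i x)
    (hc : Nat.card (Subgroup.centralizer ({x} : Set G)) ≤ c) (hk : Nat.Coprime k (D.ord i))
    (hn : ¬ IsConj x (x ^ k)) (h : D.cnt i ≤ 2 * (D.N / c)) : BoxR K D val i 2 :=
  ⟨x, c, [1, k], hx, hc, rfl, by simpa using hk, by simpa using hn, h⟩

theorem cent_pow_le [Finite G] {x : G} {k : ℕ} (hk : Nat.Coprime k (orderOf x)) :
    Nat.card (Subgroup.centralizer ({x ^ k} : Set G)) ≤ Nat.card (Subgroup.centralizer ({x} : Set G)) := by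
  obtain ⟨m, hm⟩ := exists_pow_eq_self_of_coprime hk
  refine Subgroup.card_le_of_le fun y hy => ?_
  rw [Subgroup.mem_centralizer_singleton_iff] at hy ⊢
  rw [← hm]
  exact (Commute.pow_right hy m).eq

theorem card_classes [Finite G] {x : G} {c : ℕ} (hc : Nat.card (Subgroup.centralizer ({x} : Set G)) ≤ c)
    {ks : List ℕ} (h1 : ∀ k ∈ ks, Nat.Coprime k (orderOf x)) (h2 : ks.Pairwise fun a b => ¬ IsConj (x ^ a) (x ^ b)) :
    ks.length * (Nat.card G / c) ≤ Nat.card {g : G // ∃ k ∈ ks, IsConj (x ^ k) g} := by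
  induction ks with
  | nil => simp
  | cons k ks ih =>
    rw [List.pairwise_cons] at h2
    have h3 := ih (fun a ha => h1 a (List.mem_cons_of_mem _ ha)) h2.2
    have h4 := div_le_class ((cent_pow_le (h1 k List.mem_cons_self)).trans hc)
    rw [List.length_cons, add_mul, one_mul]
    refine (Nat.add_le_add h3 h4).trans ?_
    rw [← Nat.card_sum]
    refine Nat.card_le_card_of_injective (Sum.elim
      (fun g => ⟨g.1, g.2.imp fun a ha => ⟨List.mem_cons_of_mem _ ha.1, ha.2⟩⟩)
      (fun g => ⟨g.1, k, List.mem_cons_self, g.2⟩)) ?_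
    rintro (a | a) (b | b) hab
    · exact congrArg Sum.inl (Subtype.ext (congrArg Subtype.val hab :))
    · have h5 : a.1 = b.1 := congrArg Subtype.val hab
      obtain ⟨j, hj, h6⟩ := a.2
      exact absurd (b.2.trans (h5 ▸ h6.symm)) (h2.1 j hj)
    · have h5 : a.1 = b.1 := congrArg Subtype.val hab
      obtain ⟨j, hj, h6⟩ := b.2
      exact absurd (a.2.trans (h5 ▸ h6.symm)) (h2.1 j hj)
    · exact congrArg Sum.inr (Subtype.ext (congrArg Subtype.val hab :))

theorem BoxR.aux [Finite G] (hN : Nat.card G = D.N) {i m : ℕ} (h : BoxR K D val i m) :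
    ∃ (x : G) (ks : List ℕ), ks.length = m ∧ (∀ k ∈ ks, Nat.Coprime k (orderOf x)) ∧
      (ks.Pairwise fun a b => ¬ IsConj (x ^ a) (x ^ b)) ∧ (∀ g, (∃ k ∈ ks, IsConj (x ^ k) g) → Ty K D val i g) ∧
      D.cnt i ≤ Nat.card {g : G // ∃ k ∈ ks, IsConj (x ^ k) g} := by
  obtain ⟨x, c, ks, h1, h2, rfl, h3, h4, h5⟩ := h
  refine ⟨x, ks, rfl, h1.1 ▸ h3, h4, ?_, h5.trans (hN ▸ card_classes h2 (h1.1 ▸ h3) h4)⟩
  rintro g ⟨k, hk, hg⟩
  exact (ty_coprime h1 (h3 k hk)).isConj hg

theorem BoxR.box [Finite G] (hN : Nat.card G = D.N) {i m : ℕ} (h : BoxR K D val i m) : Box K D val i := by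
  obtain ⟨x, ks, -, -, -, h1, h2⟩ := h.aux hN
  exact h2.trans (Nat.card_le_card_of_injective (fun g => ⟨g.1, h1 _ g.2⟩) fun a b hab =>
    Subtype.ext (congrArg Subtype.val hab :))

/-- the numbers of the classes of the types add up to at most the class number -/
theorem sum_le_classes [Finite G] (T : TD G D) (m : ℕ → ℕ) (h : ∀ i < D.n, ∃ l : List G, l.length = m i ∧
    (∀ g ∈ l, T.ty g = i) ∧ l.Pairwise fun a b => ¬ IsConj a b) :
    ((List.range D.n).map m).sum ≤ Nat.card (ConjClasses G) := by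
  classical
  have := Fintype.ofFinite G
  have := Fintype.ofFinite (ConjClasses G)
  let ty : ConjClasses G → ℕ := fun c => T.ty c.out
  have hty : ∀ g, ty (ConjClasses.mk g) = T.ty g := fun g => by
    obtain ⟨c, hc⟩ := isConj_iff.1 (ConjClasses.mk_eq_mk_iff_isConj.1 (Quotient.out_eq (ConjClasses.mk g)))
    rw [← hc, T.conj, hc]
  rw [sum_range_eq, Nat.card_eq_fintype_card, ← Finset.card_univ,
    Finset.card_eq_sum_card_fiberwise (f := ty) (t := Finset.range D.n) fun c _ => Finset.mem_range.2 (T.lt _)]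
  refine Finset.sum_le_sum fun i hi => ?_
  obtain ⟨l, h1, h2, h3⟩ := h i (Finset.mem_range.1 hi)
  have h4 : (l.map ConjClasses.mk).Nodup :=
    List.pairwise_map.2 (h3.imp fun h5 h6 => h5 (ConjClasses.mk_eq_mk_iff_isConj.1 h6))
  rw [← h1, ← List.length_map (f := ConjClasses.mk), ← List.toFinset_card_of_nodup h4]
  refine Finset.card_le_card fun c hc => ?_
  obtain ⟨g, hg, rfl⟩ := List.mem_map.1 (List.mem_toFinset.1 hc)
  exact Finset.mem_filter.2 ⟨Finset.mem_univ _, (hty g).trans (h2 g hg)⟩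

/-- **The boxes of the rational classes give the types, the masses, `Rat` and a bound of the class number.** -/
theorem exists_td_rat [Finite G] [DecidableEq α] (h1 : D.okPow = true) (h2 : D.okSep val = true)
    (h3 : D.okSum = true) (hN : Nat.card G = D.N) (m : ℕ → ℕ) (hb : ∀ i < D.n, BoxR K D val i (m i)) :
    ∃ T : TD G D, T.Mass ∧ Rat T ∧ (∀ g, ∀ i < D.n, T.ty g = i ↔ Ty K D val i g) ∧
      ((List.range D.n).map m).sum ≤ Nat.card (ConjClasses G) := by
  obtain ⟨T, hm, hT⟩ := exists_td h1 h2 h3 hN fun i hi => (hb i hi).box hN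
  refine ⟨T, hm, fun g h hg => ?_, hT, sum_le_classes T m fun i hi => ?_⟩
  · obtain ⟨x, ks, -, h4, -, h5, h6⟩ := (hb _ (T.lt g)).aux hN
    let f : {y : G // ∃ k ∈ ks, IsConj (x ^ k) y} → {y : G // T.ty y = T.ty g} := fun y =>
      ⟨y.1, (hT _ _ (T.lt g)).2 (h5 _ y.2)⟩
    have hf : Function.Injective f := fun a b hab => Subtype.ext (congrArg Subtype.val hab :)
    have h7 := ((Nat.bijective_iff_injective_and_card f).2
      ⟨hf, le_antisymm (Nat.card_le_card_of_injective f hf) ((hm.2 _ (T.lt g)).le.trans h6)⟩).2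
    obtain ⟨⟨a, j, hj, ha⟩, ha'⟩ := h7 ⟨g, rfl⟩
    obtain ⟨⟨b, k, hk, hb⟩, hb'⟩ := h7 ⟨h, hg.symm⟩
    obtain rfl : a = g := congrArg Subtype.val ha'
    obtain rfl : b = h := congrArg Subtype.val hb'
    obtain ⟨e, he⟩ := exists_pow_eq_self_of_coprime (h4 j hj)
    refine ⟨e * k, IsConj.trans ?_ hb⟩
    have h8 := isConj_iff.1 ha
    obtain ⟨c, rfl⟩ := h8
    rw [conj_pow, pow_mul, he]
    exact (isConj_iff.2 ⟨c, rfl⟩).symm
  · obtain ⟨x, ks, h4, -, h5, h6, -⟩ := (hb i hi).aux hN
    refine ⟨ks.map (x ^ ·), by rw [List.length_map, h4], fun g hg => ?_, List.pairwise_map.2 h5⟩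
    obtain ⟨k, hk, rfl⟩ := List.mem_map.1 hg
    exact (hT _ _ hi).2 (h6 _ ⟨k, hk, IsConj.refl _⟩)

end Cfsg.Agent.TAB.ON
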