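import Cfsg.Agent.TAB.ON.Main
import Cfsg.Agent.TAB.Eng.Cov
import Cfsg.Agent.H535.RIM.ON
import Cfsg.Agent.H55.PQ.Mult
import Cfsg.Agent.H595.Central
import Cfsg.Agent.H829.GowDesc
import Cfsg.Agent.J3Type.CharTools
import Cfsg.Agent.Characters.GaloisIrr
import Cfsg.Agent.Classification.QDW.WrFGram

/-!
# The triple cover of the O'Nan group (helper45, TAB)

A faithful character vanishes at the elements whose image has order divisible by three.  Its values `A` at the lifts of
order prime to three have integral inner products with explicit rows.  If a field automorphism moved the character, the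
inner products with the rows of norm one would vanish, and the degree would be even.
-/

set_option autoImplicit false
set_option maxRecDepth 100000

namespace Cfsg.Agent.TAB.ON

open Cfsg Subgroup Cfsg.Agent.TAB.Eng Cfsg.Agent.TAB.Use Cfsg.Agent.Characters Cfsg.Agent.Characters.Core
open Cfsg.Agent.Characters.Brauer Cfsg.Agent.H447.CTab Cfsg.Agent.H622.Over
open scoped ComplexConjugate

universe u v

section generic

variable {G : Type u} [Group G] [Fintype G] {D : Dat} {T : TD G D}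

/-- `A` is the part of the generalized character `θ` on the elements of order prime to `p`, and `|A|²` is a
generalized character -/
structure Hy (p : ℕ) (A θ : G → ℂ) : Prop where
  gen : IsGeneralizedCharacter G θ
  sq : IsGeneralizedCharacter G fun g => A g * conj (A g)
  reg : ∀ g, ¬ p ∣ orderOf g → A g = θ g
  sing : ∀ g, p ∣ orderOf g → A g = 0

/-- the inner product with a function of the type -/
noncomputable def inn (T : TD G D) (A : G → ℂ) (f : ℕ → ℤ) : ℂ := classInner A fun g => (f (T.ty g) : ℂ)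

variable {p : ℕ} {A θ : G → ℂ}

theorem inn_eq (f : ℕ → ℤ) : inn T A f = (Nat.card G : ℂ)⁻¹ * ∑ g, A g * f (T.ty g) := by
  simp only [inn, classInner_def, map_intCast]

theorem inn_lin (c : ℤ) (f f' : ℕ → ℤ) : inn T A (fun t => c * f t + f' t) = c * inn T A f + inn T A f' := by
  simp only [inn_eq, Finset.mul_sum, ← Finset.sum_add_distrib]
  refine Finset.sum_congr rfl fun g _ => ?_
  push_cast
  ring

theorem inn_zero : inn T A (fun _ => 0) = 0 := by simp [inn_eq]

theorem inn_map (τ : ℂ ≃+* ℂ) (f : ℕ → ℤ) : inn T (fun g => τ (A g)) f = τ (inn T A f) := by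
  simp only [inn_eq, map_mul, map_sum, map_inv₀, map_natCast, map_intCast]

theorem inn_int (hθ : IsGeneralizedCharacter G θ) {f : ℕ → ℤ} (hf : Virt T f) : ∃ z : ℤ, inn T θ f = z := by
  have := finite_irr (G := G)
  have := Fintype.ofFinite (IrrCharacter G)
  exact ⟨_, inner_sum_mu hθ hf⟩

theorem inn_single (hm : T.Mass) {f : ℕ → ℤ} {t : ℕ} (ht : t < D.n) {a : ℂ} (ha : ∀ g, T.ty g = t → A g = a)
    (h0 : ∀ g, T.ty g ≠ t → A g = 0 ∨ f (T.ty g) = 0) : D.N * inn T A f = D.cnt t * (a * f t) := by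
  rw [inn_eq, ← hm.1, ← mul_assoc, mul_inv_cancel₀ card_ne_zero_complex, one_mul,
    Finset.sum_congr rfl (g := fun g => if T.ty g = t then a * f t else 0) fun g _ => ?_,
    sum_mass hm fun s => if s = t then a * f t else 0]
  · simp only [smul_ite, smul_zero, Finset.sum_ite_eq', Finset.mem_range, ht, if_true, nsmul_eq_mul]
  · split_ifs with h
    · rw [ha g h, h]
    · rcases h0 g h with h1 | h1 <;> simp [h1]

theorem Hy.int_sing (h : Hy p A θ) {f : ℕ → ℤ} (hf : Virt T f) (h0 : ∀ t < D.n, p ∣ D.ord t → f t = 0) :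
    ∃ z : ℤ, inn T A f = z := by
  obtain ⟨z, hz⟩ := inn_int h.gen hf
  refine ⟨z, Eq.trans ?_ hz⟩
  rw [inn_eq, inn_eq]
  congr 1
  refine Finset.sum_congr rfl fun g _ => ?_
  by_cases h1 : p ∣ orderOf g
  · rw [h0 _ (T.lt g) (T.ord g ▸ h1), Int.cast_zero, mul_zero, mul_zero]
  · rw [h.reg g h1]

theorem Hy.val (h : Hy p A θ) (hm : T.Mass) {t : ℕ} (h1 : One T t) (hp : ¬ p ∣ D.ord t) :
    ∃ a : ℤ, ∀ g, T.ty g = t → A g = a := by
  obtain ⟨x, hx, -⟩ := id h1
  obtain ⟨α, β, hα, hβ, he⟩ := h.gen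
  have h2 : ∀ m : ℕ, m.Coprime (orderOf x) → IsConj x (x ^ m) := fun m hc => by
    refine h1.conj hm hx ?_
    have h3 := T.pow x 1
    rw [pow_one, Dat.pwf, Nat.gcd_one_left] at h3
    rw [T.pow, Dat.pwf, ← T.ord, hc, ← h3, hx]
  obtain ⟨a, ha⟩ := J3Type.CharTools.int_of_conj hα x h2
  obtain ⟨b, hb⟩ := J3Type.CharTools.int_of_conj hβ x h2
  refine ⟨a - b, fun g hg => ?_⟩
  obtain ⟨c, rfl⟩ := isConj_iff.1 (h1.conj hm hx hg)
  rw [h.reg _ (by rwa [T.ord, hg]), gen_classFunction h.gen, he, Pi.sub_apply, ha, hb, Int.cast_sub]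

/-- the row `u` lives on the type `t`, and the combination `c` of the rows shows that `q` divides the value there -/
noncomputable def okU (D : Dat) (p : ℕ) (rows : List (List ℤ)) (x : List ℤ × ℕ × ℕ × List (ℤ × ℕ)) : Bool :=
  decide (x.2.1 < D.n ∧ ¬ p ∣ D.ord x.2.1 ∧ x.2.2.1 * D.cnt x.2.1 * nth x.1 x.2.1 = D.N ∧
    x.2.2.1 * x.2.2.1 * D.cnt x.2.1 * nth (comb rows x.2.2.2) x.2.1 = D.N) &&
  allL (fun s => decide (s = x.2.1 ∨ nth x.1 s = 0 ∧ (p ∣ D.ord s ∨ nth (comb rows x.2.2.2) s = 0))) (List.range D.n)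

theorem Hy.int_u (h : Hy p A θ) (hm : T.Mass) {rows : List (List ℤ)} (hr : ∀ r ∈ rows, Virt T (nth r))
    {x : List ℤ × ℕ × ℕ × List (ℤ × ℕ)} (h1 : One T x.2.1) (hx : okU D p rows x = true) :
    ∃ z : ℤ, inn T A (nth x.1) = z := by
  obtain ⟨u, t, q, c⟩ := x
  rw [okU, Bool.and_eq_true] at hx
  obtain ⟨h2, h3, h4, h5⟩ := of_decide_eq_true hx.1
  have h6 := fun g => of_decide_eq_true (allL_spec hx.2 (T.ty g) (List.mem_range.2 (T.lt g)))
  dsimp only at h1 h2 h3 h4 h5 h6 ⊢
  obtain ⟨a, ha⟩ := h.val hm h1 h3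
  obtain ⟨z, hz⟩ := inn_int h.sq (Virt.comb hr c)
  have hN : (D.N : ℂ) ≠ 0 := hm.1 ▸ card_ne_zero_complex
  have h7 := inn_single hm (A := fun g => A g * conj (A g)) (f := nth (comb rows c)) h2 (a := a * a)
    (fun g hg => by rw [ha g hg, map_intCast]) fun g hg =>
      ((h6 g).resolve_left hg).2.imp_left fun h8 => by rw [h.sing g (T.ord g ▸ h8), zero_mul]
  have h8 := inn_single hm (f := nth u) h2 ha fun g hg => Or.inr ((h6 g).resolve_left hg).1
  have h9 := congrArg (Int.cast : ℤ → ℂ) h4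
  have h10 := congrArg (Int.cast : ℤ → ℂ) h5
  push_cast at h9 h10
  have h11 : (a : ℂ) ^ 2 = q ^ 2 * z := mul_left_cancel₀ hN (by
    rw [hz] at h7
    linear_combination (-(q : ℂ) ^ 2) * h7 - a ^ 2 * h10)
  obtain ⟨b, rfl⟩ := (Int.pow_dvd_pow_iff two_ne_zero).1 (⟨z, by exact_mod_cast h11⟩ : (q : ℤ) ^ 2 ∣ a ^ 2)
  refine ⟨b, mul_left_cancel₀ hN ?_⟩
  push_cast at h8
  linear_combination h8 + b * h9

theorem int_comb {us : List (List ℤ)} (h : ∀ u ∈ us, ∃ z : ℤ, inn T A (nth u) = z) (c : List (ℤ × ℕ)) :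
    ∃ z : ℤ, inn T A (nth (comb us c)) = z := by
  induction c with
  | nil => exact ⟨0, inn_zero.trans Int.cast_zero.symm⟩
  | cons x c ih =>
    obtain ⟨z, hz⟩ := ih
    obtain ⟨y, hy⟩ : ∃ y : ℤ, inn T A (nth (ntd us [] x.2)) = y := by
      rcases ntd_mem us [] x.2 with h1 | h1
      · rw [h1]
        exact ⟨0, inn_zero.trans Int.cast_zero.symm⟩
      · exact h _ h1
    rw [funext (nth_comb_cons us x c), inn_lin, hz, hy]
    exact ⟨x.1 * y + z, by push_cast; rfl⟩

/-- the row of an entry of the certificate -/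
noncomputable def rowC (rows us : List (List ℤ)) (x : ℤ × List (ℤ × ℕ) × List (ℤ × ℕ)) : List ℤ :=
  addL (comb us x.2.1) (comb rows x.2.2)

/-- the check of an entry -/
noncomputable def okE (D : Dat) (p : ℕ) (rows us : List (List ℤ)) (x : ℤ × List (ℤ × ℕ) × List (ℤ × ℕ)) : Bool :=
  decide (2 ∣ x.1 ∨ ip D (rowC rows us x) (rowC rows us x) = D.N * 1) &&
    allL (fun s => decide (p ∣ D.ord s → nth (comb rows x.2.2) s = 0)) (List.range D.n)

theorem Hy.even (h : Hy p A θ) (hm : T.Mass) (hl : D.cntL.length = D.n) {rows us : List (List ℤ)}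
    (hr : ∀ r ∈ rows, Virt T (nth r)) (hu : ∀ u ∈ us, ∃ z : ℤ, inn T A (nth u) = z) (τ : ℂ ≃+* ℂ)
    (h1 : classInner A A = 1) (h2 : classInner (fun g => τ (A g)) (fun g => τ (A g)) = 1)
    (h3 : classInner A (fun g => τ (A g)) = 0) (l : List (ℤ × List (ℤ × ℕ) × List (ℤ × ℕ)))
    (hc : ∀ x ∈ l, okE D p rows us x = true) :
    ∃ z : ℤ, inn T A (fun s => (l.map fun x => x.1 * nth (rowC rows us x) s).sum) = 2 * z := by
  induction l with
  | nil => exact ⟨0, inn_zero.trans (by simp)⟩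
  | cons x l ih =>
    obtain ⟨z, hz⟩ := ih fun y hy => hc y (List.mem_cons_of_mem _ hy)
    have h4 := hc x List.mem_cons_self
    rw [okE, Bool.and_eq_true] at h4
    obtain ⟨a, ha⟩ := int_comb hu x.2.1
    obtain ⟨b, hb⟩ := h.int_sing (Virt.comb hr x.2.2) fun s hs =>
      of_decide_eq_true (allL_spec h4.2 s (List.mem_range.2 hs))
    have h5 : inn T A (nth (rowC rows us x)) = (a + b : ℤ) := by
      rw [show nth (rowC rows us x) = fun s => 1 * nth (comb us x.2.1) s + nth (comb rows x.2.2) s from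
        funext fun s => by rw [one_mul, rowC, nth_addL], inn_lin, ha, hb]
      push_cast
      ring
    simp only [List.map_cons, List.sum_cons]
    rw [inn_lin, hz, h5]
    rcases of_decide_eq_true h4.1 with ⟨d, hd⟩ | h6
    · exact ⟨d * (a + b) + z, by rw [hd]; push_cast; ring⟩
    · have h7 := inn_map (T := T) (A := A) τ (nth (rowC rows us x))
      rw [h5, map_intCast] at h7
      have h8 := Classification.QDW.WrFGram.bessel2 h1 h2 h3 (inner_of_ip hm hl h6) (a := a + b) (b := a + b)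
        (by rw [← classInner_conj_symm]; exact (congrArg conj h5).trans (map_intCast _ _))
        (by rw [← classInner_conj_symm]; exact (congrArg conj h7).trans (map_intCast _ _))
      rw [show a + b = 0 by nlinarith]
      exact ⟨z, by simp⟩

end generic

section cover

variable {X : Type v} [Group X] [Finite X] {G : Type u} [Group G] [Finite G] {D : Dat} {T : TD G D}

/-- the whole check -/
noncomputable def okC (D : Dat) (p k : ℕ) (rows : List (List ℤ)) (U : List (List ℤ × ℕ × ℕ × List (ℤ × ℕ)))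
    (l : List (ℤ × List (ℤ × ℕ) × List (ℤ × ℕ))) : Bool :=
  allL (okU D p rows) U && allL (okE D p rows (U.map Prod.fst)) l &&
    allL (fun s => decide ((p ∣ D.ord s ∨ k % D.ord s = 1 % D.ord s) ∧ (D.ord s = 1 ↔ s = 0) ∧
      (l.map fun x => x.1 * nth (rowC rows (U.map Prod.fst) x) s).sum = if s = 0 then (D.N : ℤ) else 0))
      (List.range D.n) && decide (p ∣ k ∧ D.cnt 0 = 1 ∧ D.cntL.length = D.n)

/-- **the faithful characters of odd degree** -/
theorem rat2_of_check (φ : X →* G) (hφ : Function.Surjective φ) (hZ : φ.ker ≤ center X) {p k : ℕ} (hp : p ≠ 1)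
    (ho : Odd p) (hk : Nat.card φ.ker = p) (hm : T.Mass) {rows : List (List ℤ)} (hr : ∀ r ∈ rows, Virt T (nth r))
    {U : List (List ℤ × ℕ × ℕ × List (ℤ × ℕ))} (hU : ∀ x ∈ U, One T x.2.1)
    {l : List (ℤ × List (ℤ × ℕ) × List (ℤ × ℕ))} (hc : okC D p k rows U l = true) {χ : X → ℂ}
    (hχ : IsIrrCharacter X χ) (hv : ∀ x, p ∣ orderOf (φ x) → χ x = 0) (hd : Odd (charDegree χ)) :
    ODD.Red.Rat2 χ := by
  classical
  have := Fintype.ofFinite G
  have := Fintype.ofFinite X
  intro τ hτ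
  by_contra hne
  simp only [okC, Bool.and_eq_true, decide_eq_true_eq] at hc
  obtain ⟨⟨⟨c1, c2⟩, c3⟩, c4, c5, c6⟩ := hc
  have c7 := fun g => of_decide_eq_true (allL_spec c3 (T.ty g) (List.mem_range.2 (T.lt g)))
  obtain ⟨c, hc⟩ := exists_hom hZ hχ
  have hz : ∀ z : φ.ker, z ^ p = 1 := fun z => hk ▸ pow_card_eq_one'
  have hs : ∀ x y, φ x = φ y → ∃ z : φ.ker, y = x * z := fun x y h =>
    ⟨⟨x⁻¹ * y, by rw [MonoidHom.mem_ker, map_mul, map_inv, h, inv_mul_cancel]⟩, by simp⟩
  let θ : G → ℂ := fun g => χ (Function.surjInv hφ g ^ k)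
  let A : G → ℂ := fun g => if p ∣ orderOf g then 0 else θ g
  have h1 : ∀ x, θ (φ x) = χ (x ^ k) := fun x => by
    obtain ⟨z, h⟩ := hs x _ (Function.surjInv_eq hφ (φ x)).symm
    obtain ⟨m, rfl⟩ := c4
    have h2 : (z : X) ^ p = 1 := congrArg Subtype.val (hz z)
    simp only [θ]
    rw [h, (show Commute x z from mem_center_iff.1 (hZ z.2) x).mul_pow, pow_mul (z : X), h2, one_pow, mul_one]
  have h2 : ∀ x, ∃ z : φ.ker, A (φ x) = χ x * c z := fun x => by
    by_cases h : p ∣ orderOf (φ x)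
    · exact ⟨1, by simp only [A, if_pos h, hv x h, zero_mul]⟩
    · obtain ⟨z, h3⟩ := hs x (x ^ k) (by
        rw [map_pow, ← pow_mod_orderOf, T.ord, (c7 (φ x)).1.resolve_left (T.ord _ ▸ h), ← T.ord, pow_mod_orderOf,
          pow_one])
      exact ⟨z, by simp only [A, if_neg h, h1, h3, hc x z]⟩
  have h3 : ∀ z : φ.ker, (c z : ℂ) * conj (c z : ℂ) = 1 := fun z => by
    rw [conj_hom, ← Units.val_mul, ← map_mul, mul_inv_cancel, map_one, Units.val_one]
  have h4 : ∀ σ ρ : ℂ ≃+* ℂ, ODD.Red.Two σ → ODD.Red.Two ρ → classInner (fun g => σ (A g)) (fun g => ρ (A g)) =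
      classInner (fun x => σ (χ x)) (fun x => ρ (χ x)) := fun σ ρ hσ hρ => by
    rw [← H829.GowDesc.classInner_comp_surj φ hφ, classInner_def, classInner_def]
    congr 1
    refine Finset.sum_congr rfl fun x _ => ?_
    obtain ⟨z, h⟩ := h2 x
    have h5 : (c z : ℂ) ^ p = 1 := by rw [← Units.val_pow_eq_pow_val, ← map_pow, hz, map_one, Units.val_one]
    simp only [Function.comp_apply, h, map_mul, hσ p _ ho h5, hρ p _ ho h5]
    linear_combination σ (χ x) * conj (ρ (χ x)) * h3 z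
  have hg := isIrr_isCharacter hχ
  have H : Hy p A θ := ⟨H55.PQ.gen_descend φ hφ (H139.Cusp.isGeneralizedCharacter_pow
      (isGeneralizedCharacter_of_isCharacter hg) k) h1, H55.PQ.gen_descend φ hφ
      (isGeneralizedCharacter_of_isCharacter (isCharacter_mul hg (isCharacter_conj hg))) fun x => by
        obtain ⟨z, h⟩ := h2 x
        simp only [h, map_mul, Pi.mul_apply]
        linear_combination χ x * conj (χ x) * h3 z,
    fun g h => if_neg h, fun g h => if_pos h⟩
  have hτχ := GaloisIrr.isIrr_map τ hχ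
  obtain ⟨z, h5⟩ := H.even hm c6 hr (us := U.map Prod.fst) (fun u hu => by
      obtain ⟨x, hx, rfl⟩ := List.mem_map.1 hu
      exact H.int_u hm hr (hU x hx) (allL_spec c1 x hx)) τ
    ((h4 _ _ .refl .refl).trans (classInner_irr_self hχ)) ((h4 _ _ hτ hτ).trans (classInner_irr_self hτχ))
    ((h4 _ _ .refl hτ).trans (classInner_irr_ne hχ hτχ fun h => hne fun x => (congrFun h x).symm)) l (allL_spec c2)
  have h6 : T.ty 1 = 0 := (c7 1).2.1.1 (by rw [← T.ord, orderOf_one])
  have h7 := inn_single hm (A := A) (f := fun s => (l.map fun x => x.1 * nth (rowC rows (U.map Prod.fst) x) s).sum)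
    (h6 ▸ T.lt 1) (a := A 1)
    (fun g h => by rw [orderOf_eq_one_iff.1 ((T.ord g).trans ((c7 g).2.1.2 h))])
    fun g h => Or.inr ((c7 g).2.2.trans (if_neg h))
  have h8 := (c7 1).2.2
  have h9 : A 1 = charDegree χ := by
    rw [H.reg 1 (by rwa [orderOf_one, Nat.dvd_one]), ← map_one φ, h1, one_pow, Blocks.Knorr.charDegree_eq hχ]
  rw [h6, if_pos rfl] at h8
  rw [h5, h8, c5, h9] at h7
  have h10 : (charDegree χ : ℂ) = 2 * z := mul_left_cancel₀ (hm.1 ▸ card_ne_zero_complex : (D.N : ℂ) ≠ 0) (by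
    push_cast at h7
    linear_combination -h7)
  have h11 : (charDegree χ : ℤ) = 2 * z := by exact_mod_cast h10
  obtain ⟨m, hm⟩ := hd
  omega

end cover

/-- the rows on the classes `1A 2A 4A 5A` -/
def covU : List (List ℤ × ℕ × ℕ × List (ℤ × ℕ)) := [
([51201722880], 0, 9,
  [(1, 0), (144, 1), (176, 2), (316, 3), (352, 4), (395, 5), (395, 6), (496, 7), (668, 8), (711, 9), (711, 10), (711,
    11), (733, 12), (790, 13), (1064, 14), (1443, 15), (1774, 16), (2090, 17), (2176, 18), (2170, 19), (2560, 20),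
    (2880, 21)]),
([0, 53760], 1, 3,
  [(1, 0), (8, 1), (-8, 2), (-4, 3), (16, 4), (11, 5), (11, 6), (-8, 7), (12, 8), (7, 9), (7, 10), (7, 11), (-3, 12),
    (6, 13), (-8, 14), (3, 15), (-2, 16), (10, 17), (10, 19), (-16, 21)]),
([0, 0, 0, 26880], 3, 3,
  [(1, 0), (8, 1), (8, 2), (4, 3), (3, 5), (3, 6), (-8, 7), (4, 8), (7, 9), (-1, 10), (-1, 11), (-3, 12), (-6, 13),
    (-8, 14), (3, 15), (14, 16), (-10, 17), (10, 19)]),
([0, 0, 0, 0, 0, 60], 5, 3,
  [(1, 0), (-1, 1), (1, 2), (1, 3), (2, 4), (1, 7), (-2, 8), (1, 9), (1, 10), (1, 11), (-1, 14), (-1, 16)])]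

/-- the rows of odd degree, and half of the rest of the regular character -/
def covE : List (ℤ × List (ℤ × ℕ) × List (ℤ × ℕ)) := [
(495, [(2, 0), (-1, 1), (1, 2)],
  [(-2432, 1), (-3015, 2), (-5778, 3), (-5902, 4), (-7185, 5), (-7186, 6), (-8377, 7), (-11680, 8), (-12958, 9),
    (-12934, 10), (-12934, 11), (-13034, 12), (-14351, 13), (-18903, 14), (-25992, 15), (-31898, 16), (-37560, 17),
    (-39026, 18), (-39060, 19), (-46080, 20), (-52071, 21)]),
(495, [(2, 0), (-1, 1), (1, 2)],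
  [(-2432, 1), (-3015, 2), (-5778, 3), (-5902, 4), (-7186, 5), (-7185, 6), (-8377, 7), (-11680, 8), (-12958, 9),
    (-12934, 10), (-12934, 11), (-13034, 12), (-14351, 13), (-18903, 14), (-25992, 15), (-31898, 16), (-37560, 17),
    (-39026, 18), (-39060, 19), (-46080, 20), (-52071, 21)]),
(5643, [(3, 0), (-1, 1), (1, 2), (-1, 3)],
  [(-3648, 1), (-4501, 2), (-8657, 3), (-8874, 4), (-10785, 5), (-10785, 6), (-12565, 7), (-17533, 8), (-19436, 9),
    (-19413, 10), (-19413, 11), (-19548, 12), (-21550, 13), (-28355, 14), (-38985, 15), (-47829, 16), (-56370, 17),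
    (-58540, 18), (-58590, 19), (-69120, 20), (-78080, 21)]),
(5643, [(3, 0), (-1, 1), (1, 2), (-1, 3)],
  [(-3648, 1), (-4501, 2), (-8657, 3), (-8874, 4), (-10785, 5), (-10785, 6), (-12565, 7), (-17533, 8), (-19437, 9),
    (-19412, 10), (-19413, 11), (-19548, 12), (-21550, 13), (-28355, 14), (-38985, 15), (-47829, 16), (-56370, 17),
    (-58540, 18), (-58590, 19), (-69120, 20), (-78080, 21)]),
(5643, [(3, 0), (-1, 1), (1, 2), (-1, 3)],
  [(-3648, 1), (-4501, 2), (-8657, 3), (-8874, 4), (-10785, 5), (-10785, 6), (-12565, 7), (-17533, 8), (-19437, 9),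
    (-19413, 10), (-19412, 11), (-19548, 12), (-21550, 13), (-28355, 14), (-38985, 15), (-47829, 16), (-56370, 17),
    (-58540, 18), (-58590, 19), (-69120, 20), (-78080, 21)]),
(58311, [(-2, 0), (1, 2), (1, 3)],
  [(2411, 1), (2951, 2), (5752, 3), (5944, 4), (7187, 5), (7187, 6), (8398, 7), (11698, 8), (12934, 9), (12958, 10),
    (12958, 11), (13043, 12), (14421, 13), (18922, 14), (25978, 15), (31819, 16), (37650, 17), (39027, 18), (39030,
    19), (46080, 20), (52018, 21)]),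
(58653, [(2, 0), (-1, 2), (-1, 3)],
  [(1, 0), (-2411, 1), (-2951, 2), (-5752, 3), (-5944, 4), (-7187, 5), (-7187, 6), (-8398, 7), (-11698, 8), (-12934,
    9), (-12958, 10), (-12958, 11), (-13043, 12), (-14421, 13), (-18922, 14), (-25977, 15), (-31819, 16), (-37650,
    17), (-39027, 18), (-39030, 19), (-46080, 20), (-52018, 21)]),
(111321, [(-3, 0), (1, 1), (-1, 2), (1, 3)],
  [(3648, 1), (4501, 2), (8657, 3), (8874, 4), (10785, 5), (10785, 6), (12565, 7), (17533, 8), (19437, 9), (19413,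
    10), (19413, 11), (19549, 12), (21550, 13), (28355, 14), (38985, 15), (47829, 16), (56370, 17), (58540, 18),
    (58590, 19), (69120, 20), (78080, 21)]),
(2, [],
  [(-29360, 0), (21204, 1), (6671, 2), (13049, 3), (13228, 4), (16132, 5), (16132, 6), (18922, 7), (10602, 8), (10602,
    9), (10602, 10), (10602, 11), (-10602, 12), (32321, 13), (42458, 14), (29360, 15), (71539, 16), (84645, 17),
    (87899, 18), (87885, 19), (103680, 20), (117023, 21)])]

theorem cov_ok : okC dON 3 7256481 (tabON.rel.map Prod.snd) covU covE = true := by decide +kernel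

theorem ty_ord (T : TD Spor.ON dON) {g : Spor.ON} {o t : ℕ} (ho : orderOf g = o)
    (h : ∀ s < 22, dON.ord s = o → s = t) : T.ty g = t :=
  h _ (T.lt g) ((T.ord g).symm.trans ho)

theorem ones (T : TD Spor.ON dON) : ∀ x ∈ covU, One T x.2.1 := by
  have := KFacts.ON.Cent.finite_ON
  have hN := H474.ONC.card_ON
  simp only [covU, List.forall_mem_cons, List.not_mem_nil, IsEmpty.forall_iff, implies_true, and_true]
  refine ⟨⟨1, ty_ord T orderOf_one (by decide +kernel), ?_⟩, ⟨SporadicB.ON45Word.on .f, ty_ord T (o := 2)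
    (orderOf_eq_prime (by rw [pow_two, KFacts.ON.Struct.ff]) KFacts.ON.Struct.f_ne_one) (by decide +kernel), ?_⟩,
    ⟨KFacts.ON.Words.v, ?_, ?_⟩, _, ty_ord T H474.ONC.order_x5 (by decide +kernel), ?_⟩
  · exact (one_mul _).le.trans (card_le_card_group _)
  · rw [KFacts.ON.Cent.card_cent, hN]
    decide +kernel
  · have h1 := T.pow (KFacts.ON.Words.v * H210.On7.x1) 9
    rw [ty_ord T (t := 13) ty12.1 (by decide +kernel), p12] at h1
    norm_num at h1
    exact h1.trans (by decide +kernel)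
  · refine (Nat.mul_le_mul_left _ KFacts.ON.Struct.card_J.le).trans ?_
    rw [hN]
    decide +kernel
  · rw [H474.ONC.card_cent_x5, hN]
    decide +kernel

/-- **the irreducible characters of odd degree of the triple cover are `2`-rational** -/
theorem oddCov : OddRatCov Spor.ON := by
  have := KFacts.ON.Cent.finite_ON
  intro X _ _ φ hφ hZ h3 hP χ hχ hd
  obtain ⟨c, hc⟩ := exists_hom hZ hχ
  by_cases h1 : Function.Injective c
  · obtain ⟨T, hm, -, hv, -⟩ := exists_tab
    refine rat2_of_check φ hφ hZ (by norm_num) (by norm_num) h3 hm (fun r hr => ?_) (ones T) cov_ok hχ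
      (fun x hx => ?_) hd
    · obtain ⟨y, hy, rfl⟩ := List.mem_map.1 hr
      exact hv y hy
    · refine H535.RIM.ON.vanish hZ (QuotientGroup.quotientKerEquivOfSurjective φ hφ) h3 hP h1 (χ := ⟨χ, hχ⟩) hc ?_
      rwa [← (QuotientGroup.quotientKerEquivOfSurjective φ hφ).orderOf_eq]
  · have : Fact (Nat.card φ.ker).Prime := ⟨h3 ▸ Nat.prime_three⟩
    have h2 := (c.ker.eq_bot_or_eq_top_of_prime_card).resolve_left fun h => h1 (c.ker_eq_bot_iff.1 h)
    obtain ⟨ψ, hψ⟩ := H595.Central.descend φ hφ ⟨χ, hχ⟩ fun x z hz => by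
      have h4 : c ⟨z, hz⟩ = 1 := (h2 ▸ mem_top _ : (⟨z, hz⟩ : φ.ker) ∈ c.ker)
      exact (hc x ⟨z, hz⟩).trans (by rw [h4, Units.val_one, mul_one])
    have h4 : ∀ x, χ x = (ψ : Spor.ON → ℂ) (φ x) := fun x => (hψ x).symm
    intro τ hτ x
    rw [h4]
    refine odd _ ψ.2 ?_ τ hτ _
    rwa [charDegree, ← map_one φ, ← h4]

end Cfsg.Agent.TAB.ON
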